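import Groth.Agent.AlgSpBase.NbhdLimit
import Groth.Agent.AlgSpBase.SpaceEquiv
import Groth.Agent.AlgSpDec.LimScheme
import Groth.Agent.LimPresLib.AffineImm
import Groth.Agent.LimPresLib.SpaceLim

/-!
# A space which is a scheme over a local scheme of the base is a scheme over a neighbourhood
-/

set_option autoImplicit false
set_option backward.isDefEq.respectTransparency false
set_option backward.isDefEq.respectTransparency.types false

universe u

open CategoryTheory CategoryTheory.Limits AlgebraicGeometry Opposite AlgSp Groth.Agent.AlgSpLib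
  Groth.Agent.AlgSpPts Groth.Agent.AlgSpDec

namespace Groth.Agent.AlgSpBase

variable {V S : Scheme.{u}}

theorem isPullback_of_terminal {C : Type*} [Category C] [HasBinaryProducts C] {A B T : C} (hT : IsTerminal T)
    (a : A ⟶ T) (b : B ⟶ T) : IsPullback (prod.fst : A ⨯ B ⟶ A) prod.snd a b :=
  ⟨⟨hT.hom_ext _ _⟩, ⟨PullbackCone.IsLimit.mk _ (fun s => prod.lift s.fst s.snd)
    (fun s => by simp) (fun s => by simp) (fun s m h1 h2 => by apply Limits.prod.hom_ext <;> simp [h1, h2])⟩⟩

/-- A scheme over an open of the base, restricted back. -/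
noncomputable def jinvSelfIso (g : V ⟶ S) [Mono g] (Y : Over V) :
    (yon V).obj Y ≅ (jinv g).obj ((yon S).obj ((Over.map g).obj Y)) :=
  have sq : IsPullback (𝟙 Y.left) Y.hom (Y.hom ≫ g) g :=
    ⟨⟨by simp⟩, ⟨PullbackCone.IsLimit.mk _ (fun s => s.fst) (fun s => by simp)
      (fun s => by rw [← cancel_mono g, Category.assoc]; exact s.condition) (fun s m h1 _ => by simpa using h1)⟩⟩
  (yon V).mapIso (Over.isoMk sq.isoPullback sq.isoPullback_hom_snd) ≪≫
    jinvYonIso g ((Over.map g).obj Y)

theorem isIso_jinv_from (g : V ⟶ S) [Mono g] :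
    IsIso ((jinv g).map ((isTerminalYon S).from ((yon S).obj (Over.mk g)))) := by
  have : PreservesLimitsOfSize.{0, 0} (jinv g) := (jadj g).rightAdjoint_preservesLimits
  have h1 : IsTerminal ((jinv g).obj ((yon S).obj (Over.mk (𝟙 S)))) :=
    (isTerminalYon S).isTerminalObj (jinv g) _
  have h2 : IsTerminal ((jinv g).obj ((yon S).obj (Over.mk g))) :=
    (isTerminalYon V).ofIso (jinvSelfIso g (Over.mk (𝟙 V)) ≪≫
      (jinv g).mapIso ((yon S).mapIso (Over.isoMk (Iso.refl _) (by simp))))
  exact isIso_of_isTerminal h2 h1 _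

theorem isQuasiCompactSp_jinv (g : V ⟶ S) [IsOpenImmersion g] [CompactSpace ↥V] {F : Sp S}
    (hqc : IsQuasiCompactMor ((isTerminalYon S).from F)) : IsQuasiCompactSp ((jinv g).obj F) := by
  obtain ⟨U, a, ha, has, hU⟩ := hqc (IsAlgSpace.yon_obj (Over.mk g))
    ((AlgSpPts.isQuasiCompactSp_yon_iff _).2 (inferInstanceAs (CompactSpace ↥V))) _ _ _
    (isPullback_of_terminal (isTerminalYon S) _ ((isTerminalYon S).from ((yon S).obj (Over.mk g))))
  have : IsIso ((jinv g).map (prod.fst : F ⨯ (yon S).obj (Over.mk g) ⟶ F)) := by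
    have := isIso_jinv_from g
    exact (jinv_map_isPullback g (isPullback_of_terminal (isTerminalYon S) ((isTerminalYon S).from F)
      ((isTerminalYon S).from ((yon S).obj (Over.mk g))))).isIso_fst_of_isIso
  refine ⟨_, (jinvYonIso g U).hom ≫ (jinv g).map a ≫ (jinv g).map prod.fst,
    repWith_comp (repWith_of_isIso _ _) (repWith_comp (repWith_jinv g ha) (repWith_of_isIso _ _)),
    repWith_comp (repWith_of_isIso _ _) (repWith_comp (repWith_jinv g has) (repWith_of_isIso _ _)), ?_⟩
  obtain ⟨u, hu⟩ := (yon S).map_surjective (a ≫ prod.snd)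
  have hr : Set.range U.hom ⊆ Set.range g := by
    rintro _ ⟨x, rfl⟩
    have e : u.left ≫ g = U.hom := Over.w u
    exact ⟨u.left x, by rw [← e]; rfl⟩
  have hs : Function.Surjective (pullback.fst U.hom g) := fun x => by
    have := IsOpenImmersion.range_pullbackFst g U.hom
    exact (this ▸ (show U.hom x ∈ Set.range g from hr ⟨x, rfl⟩) : x ∈ Set.range (pullback.fst U.hom g))
  exact ((pullback.fst U.hom g).isOpenEmbedding.isEmbedding.toHomeomorphOfSurjective hs).symm.compactSpace

theorem isQuasiSeparatedSp_jinv (g : V ⟶ S) {F : Sp S}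
    (hqs : IsQuasiSeparatedMor ((isTerminalYon S).from F)) : IsQuasiSeparatedSp ((jinv g).obj F) := by
  rw [isQuasiSeparatedSp_iff_mor]
  have : PreservesLimitsOfSize.{0, 0} (jinv g) := (jadj g).rightAdjoint_preservesLimits
  let q : F ⟶ (yon S).obj (Over.mk (𝟙 S)) := (isTerminalYon S).from F
  let e := ((isTerminalYon S).isTerminalObj (jinv g) _).uniqueUpToIso (isTerminalYon V)
  rw [(isTerminalYon V).hom_ext ((isTerminalYon V).from _) ((jinv g).map q ≫ e.hom)]
  refine isQuasiSeparatedMor_comp ?_ (repWith_of_isIso _ _)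
  have sq := jinv_map_isPullback g (IsPullback.of_hasPullback q q)
  have he : pullback.diagonal ((jinv g).map q) = (jinv g).map (pullback.diagonal q) ≫ sq.isoPullback.hom := by
    apply pullback.hom_ext
    · rw [pullback.diagonal_fst, Category.assoc, sq.isoPullback_hom_fst, ← Functor.map_comp,
        pullback.diagonal_fst]
      exact ((jinv g).map_id F).symm
    · rw [pullback.diagonal_snd, Category.assoc, sq.isoPullback_hom_snd, ← Functor.map_comp,
        pullback.diagonal_snd]
      exact ((jinv g).map_id F).symm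
  show RepWith _ (pullback.diagonal ((jinv g).map q))
  rw [he]
  exact repWith_comp (repWith_jinv g hqs) (repWith_of_isIso _ _)

/-- The restriction of a product with a scheme over the open. -/
noncomputable def jinvProdIso (g : V ⟶ S) [Mono g] (F : Sp S) (Y : Over V) :
    (jinv g).obj F ⨯ (yon V).obj Y ≅ (jinv g).obj (F ⨯ (yon S).obj ((Over.map g).obj Y)) :=
  have : PreservesLimitsOfSize.{0, 0} (jinv g) := (jadj g).rightAdjoint_preservesLimits
  prod.mapIso (Iso.refl _) (jinvSelfIso g Y) ≪≫ (PreservesLimitPair.iso (jinv g) _ _).symm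

/-- A product with a scheme over the open is extended by zero from the open. -/
theorem isRepresentable_of_jinv_prod (g : V ⟶ S) [Mono g] (F : Sp S) (Y : Over V)
    (h : ((jinv g).obj F ⨯ (yon V).obj Y).obj.IsRepresentable) :
    (F ⨯ (yon S).obj ((Over.map g).obj Y)).obj.IsRepresentable := by
  obtain ⟨T, ⟨r⟩⟩ := h.has_representation
  let p : F ⨯ (yon S).obj ((Over.map g).obj Y) ⟶ (yon S).obj (Over.mk g) :=
    prod.snd ≫ (yon S).map (Over.homMk Y.hom rfl)
  have hm : Mono ((isTerminalYon S).from ((yon S).obj (Over.mk g))) := by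
    have : Mono (Over.homMk g (Category.comp_id _) : Over.mk g ⟶ Over.mk (𝟙 S)) :=
      (Over.forget S).mono_of_mono_map ‹Mono g›
    rw [(isTerminalYon S).hom_ext ((isTerminalYon S).from _)
      ((yon S).map (Over.homMk g (Category.comp_id _) : Over.mk g ⟶ Over.mk (𝟙 S)))]
    infer_instance
  let e : (yon S).obj (Over.mk g) ⨯ (F ⨯ (yon S).obj ((Over.map g).obj Y)) ≅ F ⨯ (yon S).obj ((Over.map g).obj Y) :=
    { hom := prod.snd
      inv := prod.lift p (𝟙 _)
      hom_inv_id := by
        apply Limits.prod.hom_ext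
        · exact (cancel_mono ((isTerminalYon S).from _)).1 ((isTerminalYon S).hom_ext _ _)
        · simp
      inv_hom_id := prod.lift_snd _ _ }
  exact isRepresentable_of_iso (jshYonIso g T ≪≫
    (jsh g).mapIso (isoOfRepresentableBy r ≪≫ jinvProdIso g F Y) ≪≫ jshJinvIso g _ ≪≫ e)

theorem isRepresentable_jinv_prod (g : V ⟶ S) [Mono g] (F : Sp S) (Y : Over V)
    (h : (F ⨯ (yon S).obj ((Over.map g).obj Y)).obj.IsRepresentable) :
    ((jinv g).obj F ⨯ (yon V).obj Y).obj.IsRepresentable := by
  obtain ⟨T, ⟨r⟩⟩ := h.has_representation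
  exact isRepresentable_of_iso (jinvYonIso g T ≪≫ (jinv g).mapIso (isoOfRepresentableBy r) ≪≫
    (jinvProdIso g F Y).symm)

/-- A quasi-compact quasi-separated space over an affine scheme which is a scheme over the local scheme of a point is
a scheme over an affine neighbourhood of the point. -/
theorem exists_nbhd_rep [IsAffine V] {F : Sp V} (hF : IsAlgSpace F) (hqc : IsQuasiCompactSp F)
    (hqs : IsQuasiSeparatedSp F) (s : V) (h : (F ⨯ (yon V).obj (Over.mk (V.fromSpecStalk s))).obj.IsRepresentable) :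
    ∃ U : ANbhd s, (F ⨯ (yon V).obj (Over.mk U.1.ι)).obj.IsRepresentable := by
  obtain ⟨hl⟩ := isLimit_nbhdCone s
  obtain ⟨T, ⟨r⟩⟩ := h.has_representation
  obtain ⟨hc⟩ := LimPresLib.isLimit_prod (isLimitOfPreserves (yon V) hl) F
  let D := (nbhdSys s ⋙ yon V) ⋙ prod.functor.obj F
  have hD : ∀ i, IsAlgSpace (D.obj i) := fun i => isAlgSpace_prod hF (IsAlgSpace.yon_obj _)
  have hfst : ∀ i, RepWith @IsAffineHom (prod.fst : F ⨯ (yon V).obj ((nbhdSys s).obj i) ⟶ F) := fun i => by
    have : IsAffine ((nbhdSys s).obj i).left := i.2.1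
    refine repWith_of_isPullback (isPullback_of_terminal (isTerminalYon V) ((isTerminalYon V).from F)
      ((yon V).map (Over.homMk i.1.ι (Category.comp_id _) : (nbhdSys s).obj i ⟶ Over.mk (𝟙 V)))).flip ?_
    have : IsAffine i.1.toScheme := i.2.1
    exact (repWith_yon_map_iff _ _).2 (inferInstance : IsAffineHom i.1.ι)
  exact exists_isRepresentable_stage D hD
    (fun i j φ => isAffineMor_of_repWith le_rfl (LimPresLib.repWith_prod_map F _ (by
      have : IsAffine ((nbhdSys s).obj i).left := i.2.1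
      have : IsAffine ((nbhdSys s).obj j).left := j.2.1
      infer_instance)))
    (fun i => isQuasiCompactSp_of_affine hF _ (hfst i) hqc)
    (fun i => isQuasiSeparatedSp_of_affine _ (hfst i) hqs) _ hc (T := T) (isoOfRepresentableBy r)

/-- The main statement. -/
theorem exists_open_rep {F : Sp S} (hF : IsAlgSpace F) (hqc : IsQuasiCompactMor ((isTerminalYon S).from F))
    (hqs : IsQuasiSeparatedMor ((isTerminalYon S).from F)) (s : S)
    (h : (F ⨯ (yon S).obj (Over.mk (S.fromSpecStalk s))).obj.IsRepresentable) :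
    ∃ O : S.Opens, s ∈ O ∧ (F ⨯ (yon S).obj (Over.mk O.ι)).obj.IsRepresentable := by
  obtain ⟨W, hW, hsW, -⟩ := exists_isAffineOpen_mem_and_subset (U := (⊤ : S.Opens)) (x := s) trivial
  have : IsAffine W.toScheme := hW
  let g := W.ι
  let s₀ : W.toScheme := ⟨s, hsW⟩
  let e : (Over.map g).obj (Over.mk (W.toScheme.fromSpecStalk s₀)) ≅ Over.mk (S.fromSpecStalk s) :=
    Over.isoMk (asIso (Spec.map (g.stalkMap s₀))) (Scheme.SpecMap_stalkMap_fromSpecStalk g)
  obtain ⟨T, ⟨r⟩⟩ := h.has_representation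
  obtain ⟨U, hU⟩ := exists_nbhd_rep (isAlgSpace_jinv g hF) (isQuasiCompactSp_jinv g hqc)
    (isQuasiSeparatedSp_jinv g hqs) s₀ (isRepresentable_jinv_prod g F _ (isRepresentable_of_iso
      (isoOfRepresentableBy r ≪≫ prod.mapIso (Iso.refl _) ((yon S).mapIso e.symm))))
  obtain ⟨T', ⟨r'⟩⟩ := (isRepresentable_of_jinv_prod g F _ hU).has_representation
  refine ⟨g ''ᵁ U.1, ⟨s₀, U.2.2, rfl⟩, isRepresentable_of_iso (isoOfRepresentableBy r' ≪≫
    prod.mapIso (Iso.refl _) ((yon S).mapIso (Over.isoMk (g.isoImage U.1) (g.isoImage_hom_ι U.1))))⟩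

end Groth.Agent.AlgSpBase
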