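import Mathlib

/-!
# The local scheme at a point of an affine scheme as a limit of affine neighbourhoods
-/

set_option autoImplicit false
set_option backward.isDefEq.respectTransparency false
set_option backward.isDefEq.respectTransparency.types false

universe u

open CategoryTheory CategoryTheory.Limits AlgebraicGeometry Opposite TopologicalSpace

namespace Groth.Agent.AlgSpBase

variable {V : Scheme.{u}} (s : V)

/-- The affine open neighbourhoods of a point. -/
abbrev ANbhd : Type u := {U : V.Opens // IsAffineOpen U ∧ s ∈ U}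

instance [IsAffine V] : Nonempty (ANbhd s) := ⟨⟨⊤, isAffineOpen_top V, trivial⟩⟩

instance : IsCodirectedOrder (ANbhd s) := ⟨fun a b => by
  obtain ⟨W, hW, hsW, hle⟩ := exists_isAffineOpen_mem_and_subset (U := a.1 ⊓ b.1) (x := s) ⟨a.2.2, b.2.2⟩
  exact ⟨⟨W, hW, hsW⟩, fun y hy => (hle hy).1, fun y hy => (hle hy).2⟩⟩

/-- The system of affine open neighbourhoods. -/
noncomputable def nbhdSys : ANbhd s ⥤ Over V where
  obj U := Over.mk U.1.ι
  map {U W} φ := Over.homMk (V.homOfLE (leOfHom φ)) (V.homOfLE_ι _)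
  map_id U := Over.OverMorphism.ext (V.homOfLE_rfl _)
  map_comp φ ψ := Over.OverMorphism.ext (V.homOfLE_homOfLE (leOfHom φ) (leOfHom ψ)).symm

theorem range_fromSpecStalk_subset (U : ANbhd s) :
    Set.range (V.fromSpecStalk s) ⊆ Set.range U.1.ι := by
  rw [Scheme.range_fromSpecStalk, Scheme.Opens.range_ι]
  exact fun y hy => Specializes.mem_open hy U.1.2 U.2.2

/-- The cone given by the local scheme. -/
noncomputable def nbhdCone : Cone (nbhdSys s) where
  pt := Over.mk (V.fromSpecStalk s)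
  π :=
    { app := fun U => Over.homMk (IsOpenImmersion.lift U.1.ι _ (range_fromSpecStalk_subset s U))
        (IsOpenImmersion.lift_fac _ _ _)
      naturality := fun U W φ => by
        apply Over.OverMorphism.ext
        rw [← cancel_mono W.1.ι]
        show (𝟙 _ ≫ IsOpenImmersion.lift W.1.ι _ (range_fromSpecStalk_subset s W)) ≫ W.1.ι =
          (IsOpenImmersion.lift U.1.ι _ (range_fromSpecStalk_subset s U) ≫ V.homOfLE (leOfHom φ)) ≫ W.1.ι
        rw [Category.assoc, Category.assoc, Category.id_comp, V.homOfLE_ι, IsOpenImmersion.lift_fac,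
          IsOpenImmersion.lift_fac] }

theorem exists_lift_fromSpecStalk [IsAffine V] {T : Scheme.{u}} (f : T ⟶ V)
    (hf : ∀ U : ANbhd s, Set.range f ⊆ (U.1 : Set V)) : ∃ a : T ⟶ Spec (V.presheaf.stalk s), a ≫ V.fromSpecStalk s = f := by
  have hV := isAffineOpen_top V
  let x : ↥(⊤ : V.Opens) := ⟨s, trivial⟩
  let : Algebra Γ(V, ⊤) (V.presheaf.stalk s) := (V.presheaf.germ ⊤ s trivial).hom.toAlgebra
  have : IsLocalization.AtPrime (V.presheaf.stalk s) (hV.primeIdealOf x).asIdeal := hV.isLocalization_stalk x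
  have hunit : ∀ r : (hV.primeIdealOf x).asIdeal.primeCompl, IsUnit (f.appTop.hom r.1) := fun r => by
    have h1 : IsUnit (algebraMap Γ(V, ⊤) (V.presheaf.stalk s) r.1) :=
      IsLocalization.map_units (V.presheaf.stalk s) r
    have h2 : s ∈ V.basicOpen r.1 := (V.mem_basicOpen r.1 s trivial).2 h1
    have h3 : f ⁻¹ᵁ V.basicOpen r.1 = ⊤ :=
      top_le_iff.1 fun t _ => hf ⟨_, hV.basicOpen r.1, h2⟩ ⟨t, rfl⟩
    rw [Scheme.preimage_basicOpen] at h3
    refine T.toRingedSpace.isUnit_of_isUnit_germ ⊤ _ fun t _ => ?_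
    refine (T.mem_basicOpen (U := ⊤) (f.appTop.hom r.1) t (by trivial)).1 ?_
    exact h3.ge (show t ∈ (⊤ : T.Opens) from trivial)
  let φ : V.presheaf.stalk s ⟶ Γ(T, ⊤) := CommRingCat.ofHom
    (IsLocalization.lift (M := (hV.primeIdealOf x).asIdeal.primeCompl) (S := V.presheaf.stalk s) hunit :
      (V.presheaf.stalk s : Type u) →+* (Γ(T, ⊤) : Type u))
  have hφ : V.presheaf.germ ⊤ s trivial ≫ φ = f.appTop :=
    CommRingCat.hom_ext (IsLocalization.lift_comp hunit)
  refine ⟨T.toSpecΓ ≫ Spec.map φ, ?_⟩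
  rw [← hV.fromSpecStalk_eq_fromSpecStalk (x := s) trivial, IsAffineOpen.fromSpecStalk, Category.assoc,
    ← Spec.map_comp_assoc, hφ, IsAffineOpen.fromSpec_top, ← Scheme.toSpecΓ_naturality_assoc,
    ← Scheme.isoSpec_hom, Iso.hom_inv_id, Category.comp_id]

theorem isLimit_nbhdCone [IsAffine V] : Nonempty (IsLimit (nbhdCone s)) := by
  have h : ∀ c : Cone (nbhdSys s), ∃ a : c.pt.left ⟶ Spec (V.presheaf.stalk s), a ≫ V.fromSpecStalk s = c.pt.hom :=
    fun c => exists_lift_fromSpecStalk s c.pt.hom fun U => by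
      rintro _ ⟨t, rfl⟩
      have e : (c.π.app U).left ≫ U.1.ι = c.pt.hom := Over.w (c.π.app U)
      rw [← e, Scheme.Hom.comp_apply]
      exact ((c.π.app U).left t).2
  refine ⟨{ lift := fun c => Over.homMk (h c).choose (h c).choose_spec, fac := fun c U => ?_, uniq := fun c m _ => ?_ }⟩
  · apply Over.OverMorphism.ext
    rw [← cancel_mono U.1.ι]
    exact (Over.w _).trans (Over.w (c.π.app U)).symm
  · apply Over.OverMorphism.ext
    rw [← cancel_mono (V.fromSpecStalk s)]
    exact (Over.w m).trans (h c).choose_spec.symm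

end Groth.Agent.AlgSpBase
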